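import Groth.Agent.Lib.AbTors.Kill
import Groth.Agent.Lib.AbMul.Tangent
import Mathlib.RingTheory.Filtration
import Mathlib.RingTheory.Ideal.Cotangent

/-!
# A closed subscheme of an abelian variety containing all torsion of prime power order is everything
-/

set_option autoImplicit false
set_option linter.all false
set_option backward.isDefEq.respectTransparency false
set_option maxHeartbeats 1000000

universe u

open CategoryTheory CategoryTheory.Limits AlgebraicGeometry IsLocalRing
open CategoryTheory.MonoidalCategory CategoryTheory.CartesianMonoidalCategory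
open scoped MonObj

noncomputable section

namespace GrothLib.TorsClosed15

open GrothLib.AbMul

/-- The square of the maximal ideal is cut out by the tangent vectors at a rational point. -/
theorem exists_cotangentHom {K : Type u} [Field K] {O : Type u} [CommRing O] [IsLocalRing O] [IsNoetherianRing O]
    (s : K →+* O) (ε : O →+* K) (hs : ∀ x, ε (s x) = x) :
    ∃ (g : ℕ) (D : O →+* TrivSqZeroExt K (ULift.{u} (Fin g) → K)),
      (∀ a, (D a).fst = ε a) ∧ (∀ x, D (s x) = TrivSqZeroExt.inl x) ∧
      ∀ a ∈ maximalIdeal O, (D a).snd = 0 → a ∈ maximalIdeal O ^ 2 := by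
  have hsurj : Function.Surjective ε := fun x => ⟨_, hs x⟩
  have hker : RingHom.ker ε = maximalIdeal O :=
    IsLocalRing.eq_maximalIdeal (RingHom.ker_isMaximal_of_surjective ε hsurj)
  letI : Algebra K O := s.toAlgebra
  haveI : IsScalarTower K (ResidueField O) (CotangentSpace O) := IsScalarTower.of_algebraMap_smul fun r z => by
    rw [IsScalarTower.algebraMap_apply K O (ResidueField O), IsScalarTower.algebraMap_smul,
      IsScalarTower.algebraMap_smul]
  have hres : Function.Surjective (algebraMap K (ResidueField O)) := fun r => by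
    obtain ⟨a, rfl⟩ := IsLocalRing.residue_surjective r
    refine ⟨ε a, ?_⟩
    show IsLocalRing.residue O (s (ε a)) = IsLocalRing.residue O a
    rw [← sub_eq_zero, ← map_sub, IsLocalRing.residue_eq_zero_iff, ← hker, RingHom.mem_ker, map_sub, hs, sub_self]
  haveI : Module.Finite K (ResidueField O) :=
    Module.Finite.of_surjective (Algebra.linearMap K (ResidueField O)) hres
  haveI : Module.Finite K (CotangentSpace O) := Module.Finite.trans (ResidueField O) _
  let b : CotangentSpace O ≃ₗ[K] (ULift.{u} (Fin (Module.finrank K (CotangentSpace O))) → K) :=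
    ((Module.finBasis K (CotangentSpace O)).reindex Equiv.ulift.symm).equivFun
  have hm : ∀ a, a - s (ε a) ∈ maximalIdeal O := fun a => by
    rw [← hker, RingHom.mem_ker, map_sub, hs, sub_self]
  let d : O → ULift.{u} (Fin (Module.finrank K (CotangentSpace O))) → K :=
    fun a => b ((maximalIdeal O).toCotangent ⟨_, hm a⟩)
  have hadd : ∀ a a', d (a + a') = d a + d a' := fun a a' => by
    simp only [d]
    rw [← map_add b, ← map_add]
    congr 2
    refine Subtype.ext ?_
    simp only [Submodule.coe_add, map_add]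
    abel
  have hd0 : ∀ x, d (s x) = 0 := fun x => by
    simp only [d]
    rw [show (⟨_, hm (s x)⟩ : maximalIdeal O) = 0 from Subtype.ext (by simp [hs]), map_zero, map_zero]
  have hmul : ∀ a a', d (a * a') = ε a • d a' + ε a' • d a := fun a a' => by
    simp only [d]
    rw [← map_smul b, ← map_smul b, ← map_add b]
    congr 1
    rw [← IsScalarTower.algebraMap_smul O (ε a), ← IsScalarTower.algebraMap_smul O (ε a'), ← map_smul, ← map_smul,
      ← map_add, Ideal.toCotangent_eq, pow_two]
    have h := Ideal.mul_mem_mul (hm a) (hm a')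
    convert h using 1
    simp only [Submodule.coe_add, Submodule.coe_smul, smul_eq_mul, map_mul,
      show ∀ x, algebraMap K O x = s x from fun _ => rfl]
    ring
  let D : O →+* TrivSqZeroExt K (ULift.{u} (Fin (Module.finrank K (CotangentSpace O))) → K) :=
    { toFun := fun a => TrivSqZeroExt.inl (ε a) + TrivSqZeroExt.inr (d a)
      map_one' := by
        refine TrivSqZeroExt.ext (by simp) ?_
        have := hd0 1
        rw [map_one] at this
        simp [this]
      map_mul' := fun a a' => TrivSqZeroExt.ext (by simp) (by simp [hmul])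
      map_zero' := by
        refine TrivSqZeroExt.ext (by simp) ?_
        have := hd0 0
        rw [map_zero] at this
        simp [this]
      map_add' := fun a a' => TrivSqZeroExt.ext (by simp) (by simp [hadd]) }
  refine ⟨_, D, fun a => by simp [D], fun x => TrivSqZeroExt.ext (by simp [D, hs]) (by simp [D, hd0]),
    fun a ha h0 => ?_⟩
  have hea : ε a = 0 := by rwa [← RingHom.mem_ker, hker]
  have h1 : (maximalIdeal O).toCotangent ⟨a, ha⟩ = 0 := by
    simpa [D, d, hea] using h0
  exact (Ideal.toCotangent_eq_zero _ _).1 h1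

variable {k : Type u} [Field k] (X : Over (Spec (CommRingCat.of k))) [GrpObj X] [IsProper X.hom]
  [GeometricallyIntegral X.hom] {p : ℕ} {Z : Scheme.{u}} (c : Z ⟶ X.left) [IsClosedImmersion c]

theorem range_eq_univ_of_char_ne (hp : 1 < p) (hpk : (p : k) ≠ 0)
    (hc : ∀ (m : ℕ) (T : Over (Spec (CommRingCat.of k))) (a : T ⟶ X), a ^ (p ^ m) = 1 → ∃ z, z ≫ c = a.left) :
    Set.range c = Set.univ := by
  haveI := Cube.isCommMonObj_abVar (A := X)
  let Ω := AlgebraicClosure k
  let σ : Spec (CommRingCat.of Ω) ⟶ Spec (CommRingCat.of k) := Spec.map (CommRingCat.ofHom (algebraMap k Ω))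
  let P := Over.pullback σ
  haveI : IsCommMonObj (P.obj X) := Functor.isCommMonObj_obj
  haveI : IsProper (P.obj X).hom := inferInstanceAs (IsProper (pullback.snd X.hom σ))
  haveI : GeometricallyIntegral (P.obj X).hom := inferInstanceAs (GeometricallyIntegral (pullback.snd X.hom σ))
  have hpΩ : (p : Ω) ≠ 0 := by
    intro h0
    exact hpk ((algebraMap k Ω).injective (by rw [map_natCast, h0, map_zero]))
  have hd := AbTors.dense_primePowTors (P.obj X) hp hpΩ
  haveI : Surjective σ := AbTors.surjective_of_field σ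
  haveI : Surjective (pullback.fst X.hom σ) := MorphismProperty.pullback_fst (P := @Surjective) _ _ inferInstance
  refine Set.eq_univ_of_forall fun x => ?_
  obtain ⟨y, rfl⟩ := (pullback.fst X.hom σ).surjective x
  refine closure_minimal (t := pullback.fst X.hom σ ⁻¹' Set.range c) ?_
    (c.isClosedEmbedding.isClosed_range.preimage (pullback.fst X.hom σ).continuous) (hd y)
  rintro _ ⟨b, ⟨n, hn⟩, rfl⟩
  obtain ⟨z, hz⟩ := hc n _ (AbTors.projPt σ b) (by
    rw [← AbTors.projPt_pow, hn]
    have e : (1 : 𝟙_ (Over (Spec (CommRingCat.of Ω))) ⟶ P.obj X) = b ^ 0 := (pow_zero b).symm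
    rw [e, AbTors.projPt_pow, pow_zero])
  exact ⟨z (IsLocalRing.closedPoint Ω), congrArg (fun φ => φ (IsLocalRing.closedPoint Ω)) hz⟩

theorem range_eq_univ_of_char_eq (hpk : (p : k) = 0)
    (hc : ∀ (m : ℕ) (T : Over (Spec (CommRingCat.of k))) (a : T ⟶ X), a ^ (p ^ m) = 1 → ∃ z, z ≫ c = a.left) :
    Set.range c = Set.univ := by
  haveI := Cube.isCommMonObj_abVar (A := X)
  haveI : IsIntegral X.left := GeometricallyIntegral.isIntegral_of_subsingleton X.hom
  haveI : IsLocallyNoetherian X.left := LocallyOfFiniteType.isLocallyNoetherian X.hom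
  let η₀ : Spec (CommRingCat.of k) ⟶ X.left := η[X].left
  let x₀ : X.left := η₀ (closedPoint k)
  let e := X.left.fromSpecStalk x₀
  let εh : X.left.presheaf.stalk x₀ ⟶ CommRingCat.of k := Scheme.stalkClosedPointTo η₀
  have hε : Spec.map εh ≫ e = η₀ := Scheme.Spec_stalkClosedPointTo_fromSpecStalk η₀
  let sh : CommRingCat.of k ⟶ X.left.presheaf.stalk x₀ := Spec.preimage (e ≫ X.hom)
  have hsh : Spec.map sh = e ≫ X.hom := Spec.map_preimage _
  have hs : sh ≫ εh = 𝟙 _ := Spec.map_injective (by
    rw [Spec.map_comp, hsh, ← Category.assoc, hε, Spec.map_id]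
    exact Over.w η[X])
  have hs' : ∀ x, εh.hom (sh.hom x) = x := fun x => congrArg (fun f => f.hom x) hs
  obtain ⟨g, D, hD0, hDs, hD⟩ := exists_cotangentHom sh.hom εh.hom hs'
  have hker : ∀ a ∈ maximalIdeal (X.left.presheaf.stalk x₀), εh.hom a = 0 := fun a ha => by
    have h := IsLocalRing.eq_maximalIdeal (RingHom.ker_isMaximal_of_surjective εh.hom fun x => ⟨_, hs' x⟩)
    exact RingHom.mem_ker.1 (h.symm ▸ ha)
  -- the endomorphism of the stalk induced by multiplication by `p`
  let E : Over (Spec (CommRingCat.of k)) := Over.mk (e ≫ X.hom)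
  let eE : E ⟶ X := Over.homMk e rfl
  have hη : η₀ ≫ ((𝟙 X : X ⟶ X) ^ p).left = η₀ := by
    have h : η[X] ≫ (𝟙 X : X ⟶ X) ^ p = η[X] := by
      rw [MonObj.comp_pow, Category.comp_id, show η[X] = (1 : 𝟙_ _ ⟶ X) by
        rw [Hom.one_def, toUnit_unique (toUnit _) (𝟙 _), Category.id_comp], one_pow]
    exact congrArg Over.Hom.left h
  obtain ⟨⟨y, φ, hφloc⟩, hφ⟩ := (SpecToEquivOfLocalRing X.left (X.left.presheaf.stalk x₀)).symm.surjective
    (e ≫ ((𝟙 X : X ⟶ X) ^ p).left)
  change Spec.map φ ≫ X.left.fromSpecStalk y = e ≫ ((𝟙 X : X ⟶ X) ^ p).left at hφ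
  have hy : y = x₀ := by
    have h1 := congrArg (fun f => f (closedPoint (X.left.presheaf.stalk x₀))) hφ
    simp only [Scheme.Hom.comp_apply, Spec_closedPoint, e, Scheme.fromSpecStalk_closedPoint] at h1
    rw [h1, ← Scheme.Hom.comp_apply, hη]
  subst hy
  haveI := hφloc
  let c₀ : dualOver (𝟙 (Spec (CommRingCat.of k))) (ULift.{u} (Fin g) → k) ⟶ X :=
    Over.homMk (Spec.map (CommRingCat.ofHom D) ≫ e) (by
      show (Spec.map (CommRingCat.ofHom D) ≫ e) ≫ X.hom = dualHom k _ ≫ 𝟙 _
      rw [Category.comp_id, Category.assoc, ← hsh, ← Spec.map_comp]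
      exact congrArg Spec.map (CommRingCat.hom_ext (RingHom.ext hDs)))
  have hc₀ : overPt (𝟙 (Spec (CommRingCat.of k))) ≫ c₀ = 1 := by
    ext1
    rw [Hom.one_def, Over.comp_left, Over.comp_left]
    show dualPt k _ ≫ Spec.map (CommRingCat.ofHom D) ≫ e = _ ≫ η₀
    rw [show (toUnit (Over.mk (𝟙 (Spec (CommRingCat.of k))))).left = 𝟙 _ from
      (Category.comp_id _).symm.trans (Over.w _)]
    refine Eq.trans ?_ (Category.id_comp η₀).symm
    rw [← hε, ← Category.assoc, ← Spec.map_comp]
    exact congrArg (fun f => Spec.map f ≫ e) (CommRingCat.hom_ext (RingHom.ext hD0))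
  have hcp : c₀ ≫ ((𝟙 X : X ⟶ X) ^ p) = 1 := by
    rw [MonObj.comp_pow, Category.comp_id, pow_eq _ c₀ hc₀, hpk, zero_smul,
      overMap_zero_comp _ c₀ hc₀]
  have hDφ : ∀ a, D (φ.hom a) = TrivSqZeroExt.inl (εh.hom a) := by
    have h : Spec.map (φ ≫ CommRingCat.ofHom D) ≫ e =
        Spec.map (εh ≫ CommRingCat.ofHom (TrivSqZeroExt.inlHom k (ULift.{u} (Fin g) → k))) ≫ e := by
      rw [Spec.map_comp, Spec.map_comp, Category.assoc, Category.assoc, hφ, hε]
      have := congrArg Over.Hom.left hcp
      rw [Over.comp_left, Hom.one_def, Over.comp_left] at this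
      refine (Category.assoc _ _ _).symm.trans (this.trans ?_)
      refine congrArg (· ≫ η₀) ?_
      exact (Category.comp_id _).symm.trans ((Over.w (toUnit _)).trans (Category.comp_id _))
    rw [cancel_mono] at h
    exact fun a => congrArg (fun f => f.hom a) (Spec.map_injective h)
  let O := X.left.presheaf.stalk x₀
  have hφ2 : Ideal.map φ.hom (maximalIdeal O) ≤ maximalIdeal O ^ 2 := Ideal.map_le_iff_le_comap.2 fun a ha => by
    refine hD _ ?_ ?_
    · exact (IsLocalRing.mem_maximalIdeal _).2 fun hu => ha (isUnit_of_map_unit φ.hom a hu)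
    · rw [hDφ, hker a ha, TrivSqZeroExt.inl_zero, TrivSqZeroExt.snd_zero]
  -- the infinitesimal neighbourhoods of the origin are killed
  let q : (n : ℕ) → O →+* O ⧸ maximalIdeal O ^ (n + 1) := fun n => Ideal.Quotient.mk _
  let j : (n : ℕ) → Spec (CommRingCat.of (O ⧸ maximalIdeal O ^ (n + 1))) ⟶ Spec O :=
    fun n => Spec.map (CommRingCat.ofHom (q n))
  let a : (n : ℕ) → (Over.mk (j n ≫ e ≫ X.hom) ⟶ X) := fun n => Over.homMk (j n ≫ e) (Category.assoc _ _ _)
  have key : ∀ n : ℕ, a n ^ (p ^ n) = 1 := by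
    intro n
    induction n with
    | zero =>
      rw [show p ^ 0 = 1 from pow_zero p]
      refine (pow_one (a 0)).trans ?_
      ext1
      rw [Hom.one_def, Over.comp_left]
      show j 0 ≫ e = _ ≫ η₀
      rw [← hε, ← Category.assoc]
      refine congrArg (· ≫ e) ?_
      rw [show (toUnit (Over.mk (j 0 ≫ e ≫ X.hom))).left = j 0 ≫ e ≫ X.hom from
        (Category.comp_id _).symm.trans (Over.w _), ← hsh, ← Spec.map_comp, ← Spec.map_comp]
      refine congrArg Spec.map (CommRingCat.hom_ext (RingHom.ext fun r => ?_))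
      show q 0 r = q 0 (sh.hom (εh.hom r))
      rw [Ideal.Quotient.eq, zero_add, pow_one]
      refine (IsLocalRing.mem_maximalIdeal _).2 fun hu => ?_
      have := hu.map εh.hom
      rw [map_sub, hs', sub_self] at this
      exact not_isUnit_zero this
    | succ n ih =>
      have hle : maximalIdeal O ^ (n + 1) ≤ Ideal.comap φ.hom (maximalIdeal O ^ (n + 1 + 1)) := by
        rw [← Ideal.map_le_iff_le_comap, Ideal.map_pow]
        refine (Ideal.pow_right_mono hφ2 _).trans ?_
        rw [← pow_mul]
        exact Ideal.pow_le_pow_right (by omega)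
      let ψ : Spec (CommRingCat.of (O ⧸ maximalIdeal O ^ (n + 1 + 1))) ⟶
          Spec (CommRingCat.of (O ⧸ maximalIdeal O ^ (n + 1))) :=
        Spec.map (CommRingCat.ofHom (Ideal.quotientMap _ φ.hom hle))
      have hψ : ψ ≫ j n ≫ e = (j (n + 1) ≫ e) ≫ ((𝟙 X : X ⟶ X) ^ p).left := by
        rw [Category.assoc, ← hφ, ← Category.assoc, ← Category.assoc, ← Spec.map_comp, ← Spec.map_comp]
        rfl
      let ψ' : Over.mk (j (n + 1) ≫ e ≫ X.hom) ⟶ Over.mk (j n ≫ e ≫ X.hom) := Over.homMk ψ (by
        show ψ ≫ j n ≫ e ≫ X.hom = j (n + 1) ≫ e ≫ X.hom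
        have := congrArg (· ≫ X.hom) hψ
        simp only [Category.assoc] at this
        rw [this, Over.w])
      have hp' : a (n + 1) ^ p = ψ' ≫ a n := by
        rw [show a (n + 1) ^ p = a (n + 1) ≫ (𝟙 X : X ⟶ X) ^ p by rw [MonObj.comp_pow, Category.comp_id]]
        exact Over.OverMorphism.ext hψ.symm
      rw [show p ^ (n + 1) = p * p ^ n from pow_succ' p n, pow_mul, hp', ← MonObj.comp_pow, ih, MonObj.comp_one]
  haveI : IsClosedImmersion (pullback.snd c e) := MorphismProperty.pullback_snd (P := @IsClosedImmersion) _ _ ‹_›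
  obtain ⟨I, i, hi⟩ := IsClosedImmersion.Spec_iff.1 ‹IsClosedImmersion (pullback.snd c e)›
  have hI : I = ⊥ := by
    rw [← le_bot_iff, ← Ideal.iInf_pow_eq_bot_of_isLocalRing (maximalIdeal O) (Ideal.IsPrime.ne_top inferInstance)]
    refine le_iInf fun n => (le_trans ?_ (Ideal.pow_le_pow_right (Nat.le_succ n)))
    obtain ⟨z, hz⟩ := hc n _ (a n) (key n)
    let l := pullback.lift z (j n) hz ≫ i.hom
    have hl : l ≫ Spec.map (CommRingCat.ofHom (Ideal.Quotient.mk I)) = j n := by
      rw [Category.assoc, ← hi, pullback.lift_snd]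
    intro r hr
    have h : (CommRingCat.ofHom (Ideal.Quotient.mk I) ≫ Spec.preimage l) = CommRingCat.ofHom (q n) :=
      Spec.map_injective (by rw [Spec.map_comp, Spec.map_preimage, hl])
    have h' := congrArg (fun f => f.hom r) h
    refine Ideal.Quotient.eq_zero_iff_mem.1 (h'.symm.trans ?_)
    show (Spec.preimage l).hom (Ideal.Quotient.mk I r) = 0
    rw [Ideal.Quotient.eq_zero_iff_mem.2 hr, map_zero]
  have hg : genericPoint X.left ∈ Set.range c := by
    have hmem : genericPoint X.left ∈ Set.range e := by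
      rw [Scheme.range_fromSpecStalk]
      exact genericPoint_specializes x₀
    obtain ⟨t, ht⟩ := hmem
    subst hI
    haveI : IsIso (Spec.map (CommRingCat.ofHom (Ideal.Quotient.mk (⊥ : Ideal O)))) := by
      haveI : IsIso (CommRingCat.ofHom (Ideal.Quotient.mk (⊥ : Ideal O))) :=
        (RingEquiv.quotientBot O).symm.toCommRingCatIso.isIso_hom
      infer_instance
    haveI : IsIso (pullback.snd c e) := by rw [hi]; infer_instance
    refine ⟨pullback.fst c e (inv (pullback.snd c e) t), ?_⟩
    rw [← Scheme.Hom.comp_apply, ← Scheme.Hom.comp_apply, ← ht, pullback.condition, IsIso.inv_hom_id_assoc]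
  refine Set.eq_univ_of_univ_subset ?_
  rw [← (genericPoint_spec X.left).def]
  exact closure_minimal (Set.singleton_subset_iff.2 hg) c.isClosedEmbedding.isClosed_range

/-- A closed subscheme containing all torsion of `p`-power order is the whole abelian variety. -/
theorem isIso_of_torsion_factors (hp : 1 < p)
    (hc : ∀ m : ℕ, 0 < m → ∃ t : pullback η[X].left ((𝟙 X ^ (p ^ m)).left) ⟶ Z,
      t ≫ c = pullback.snd η[X].left ((𝟙 X ^ (p ^ m)).left)) : IsIso c := by
  haveI := Cube.isCommMonObj_abVar (A := X)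
  haveI : IsIntegral X.left := GeometricallyIntegral.isIntegral_of_subsingleton X.hom
  have hc' : ∀ (m : ℕ) (T : Over (Spec (CommRingCat.of k))) (a : T ⟶ X), a ^ (p ^ m) = 1 →
      ∃ z, z ≫ c = a.left := by
    intro m T a ha
    obtain ⟨t, ht⟩ := hc (m + 1) m.succ_pos
    have h : toUnit T ≫ η[X] = a ≫ (𝟙 X : X ⟶ X) ^ (p ^ (m + 1)) := by
      rw [MonObj.comp_pow, Category.comp_id, pow_succ, pow_mul, ha, one_pow, Hom.one_def]
    exact ⟨pullback.lift (toUnit T).left a.left (congrArg Over.Hom.left h) ≫ t,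
      by rw [Category.assoc, ht, pullback.lift_snd]⟩
  have hu : Set.range c = Set.univ := by
    by_cases hpk : (p : k) = 0
    · exact range_eq_univ_of_char_eq X c hpk hc'
    · exact range_eq_univ_of_char_ne X c hp hpk hc'
  haveI : Surjective c := ⟨fun x => hu.ge (Set.mem_univ x)⟩
  exact isIso_of_isClosedImmersion_of_surjective c

end GrothLib.TorsClosed15
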